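import Cfsg.Agent.H147.Gen.Base

/-!
# S4327: transport to a model (helper147)
-/

set_option autoImplicit false

namespace Cfsg.Agent.H147.Gen

open Subgroup

/-- transport of the row to a model `M` (possibly in another universe) -/
theorem gen11_transfer {K M : Type*} [Group K] [Group M] [Finite K] [IsSimpleGroup K] (hc : center K = ⊥) (e : K ≃* M)
    (h : ∀ [Finite M] [IsSimpleGroup M], center M = ⊥ → Gen11 M) : Gen11 K := by
  have : Finite M := Finite.of_equiv K e.toEquiv
  have : Nontrivial M := e.toEquiv.symm.nontrivial
  have : IsSimpleGroup M := IsSimpleGroup.isSimpleGroup_of_surjective e.toMonoidHom e.surjective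
  refine (h ?_).congr e.symm
  rw [eq_bot_iff]
  intro x hx
  have h1 : e.symm x ∈ center K := by
    rw [mem_center_iff] at hx ⊢
    intro g
    apply e.injective
    rw [map_mul, map_mul, MulEquiv.apply_symm_apply]
    exact hx (e g)
  rw [hc, mem_bot] at h1
  rw [mem_bot]
  have h2 := congrArg e h1
  rwa [MulEquiv.apply_symm_apply, map_one] at h2

end Cfsg.Agent.H147.Gen
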