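import Cfsg.Agent.H147.Gen.Eng

/-!
# S4327: the chain lemma with non-normal steps (helper147)

The next conjugate can be chosen outside a given proper subgroup `M` (e.g. the normaliser of the group generated so far).
`DepN`, `CG.of_depN`, `CA.of_depN`, arithmetic version `depN_of_chainOK2`, `CG.of_eng2`, `CA.of_eng2`, `gen11_of_chain`.
-/

set_option autoImplicit false

namespace Cfsg.Agent.H147.Gen

open Subgroup Cfsg.Agent.H940.Eng Cfsg.Agent.OrdDiv

universe u

section DepN

variable {L : Type*} [Group L]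

/-- chains in which each step can avoid one proper subgroup -/
def DepN : ℕ → Subgroup L → Prop
  | 0, H => H = ⊤
  | m + 1, H => H = ⊤ ∨ ∃ M : Subgroup L, M ≠ ⊤ ∧ ∀ K : Subgroup L, H < K → ¬ K ≤ M → DepN m K

theorem depN_top (m : ℕ) : DepN m (⊤ : Subgroup L) := by
  cases m with
  | zero => rfl
  | succ m => exact Or.inl rfl

theorem DepN.succ {m : ℕ} {H : Subgroup L} (h : DepN m H) : DepN (m + 1) H := by
  induction m generalizing H with
  | zero => exact Or.inl h
  | succ m ih =>
    rcases h with h | ⟨M, hM, h⟩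
    · exact Or.inl h
    · exact Or.inr ⟨M, hM, fun K hK hKM => ih (h K hK hKM)⟩

theorem DepN.mono {m n : ℕ} {H : Subgroup L} (h : DepN m H) (hmn : m ≤ n) : DepN n H := by
  induction hmn with
  | refl => exact h
  | step _ ih => exact ih.succ

theorem CG.of_depN [IsSimpleGroup L] {x : L} (hx : x ≠ 1) {k m : ℕ} (f : Fin k → L)
    (h : DepN m (closure (Set.range fun i => f i * x * (f i)⁻¹))) : CG (k + m) x := by
  obtain ⟨g, hg1, hg2⟩ := exists_of_dep (P := fun y : L => ∃ a : L, y = a * x * a⁻¹) (T := ⊤) (fun _ _ => mem_top _) DepN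
    (fun H _ h => h) (fun n H _ hD hne => by
      rcases hD with h | ⟨M, hM, h⟩
      · exact absurd h hne
      · by_cases hHM : H ≤ M
        · obtain ⟨a, ha⟩ := exists_conj_not_mem hx hM
          have h1 : a * x * a⁻¹ ∈ H ⊔ closure {a * x * a⁻¹} := mem_sup_right (Subgroup.subset_closure rfl)
          exact ⟨_, ⟨a, rfl⟩, h _ (lt_of_le_of_ne le_sup_left fun he => ha (hHM (he ▸ h1))) fun hle => ha (hle h1)⟩
        · obtain ⟨a, ha⟩ := exists_conj_not_mem hx hne
          have h1 : a * x * a⁻¹ ∈ H ⊔ closure {a * x * a⁻¹} := mem_sup_right (Subgroup.subset_closure rfl)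
          exact ⟨_, ⟨a, rfl⟩, h _ (lt_of_le_of_ne le_sup_left fun he => ha (he ▸ h1))
            fun hle => hHM (le_sup_left.trans hle)⟩) m k _ (fun i => ⟨f i, rfl⟩) h ⟨x, 1, by group⟩
  choose a ha using hg1
  exact ⟨a, by rw [← hg2]; congr 2; funext i; exact (ha i).symm⟩

/-- the elements `b * y(b)⁻¹` are not contained in a proper subgroup -/
theorem exists_comm_not_mem [IsSimpleGroup L] {y : MulAut L} (hy : y ≠ 1) {M : Subgroup L} (hM : M ≠ ⊤) :
    ∃ b : L, b * (y b)⁻¹ ∉ M := by
  by_contra hno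
  have hall : ∀ b : L, b * (y b)⁻¹ ∈ M := fun b => by_contra fun h => hno ⟨b, h⟩
  set N : Subgroup L := normalClosure (Set.range fun b : L => b * (y b)⁻¹) with hN
  have hNM : N ≤ M := by
    rw [hN, normalClosure, closure_le]
    intro z hz
    obtain ⟨w, ⟨c, rfl⟩, hw⟩ := Group.mem_conjugatesOfSet_iff.1 hz
    obtain ⟨a, rfl⟩ := isConj_iff.1 hw
    have h1 : a * (c * (y c)⁻¹) * a⁻¹ = (a * c * (y (a * c))⁻¹) * (a * (y a)⁻¹)⁻¹ := by
      rw [map_mul]; group
    show a * (c * (y c)⁻¹) * a⁻¹ ∈ M
    rw [h1]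
    exact M.mul_mem (hall _) (M.inv_mem (hall _))
  rcases (inferInstance : N.Normal).eq_bot_or_eq_top with h | h
  · apply hy
    ext b
    have h1 : b * (y b)⁻¹ ∈ N := Subgroup.subset_normalClosure ⟨b, rfl⟩
    rw [h, mem_bot, mul_inv_eq_one] at h1
    exact h1.symm
  · apply hM
    rw [eq_top_iff, ← h]
    exact hNM

theorem CA.of_depN [IsSimpleGroup L] {x : MulAut L} (hx : x ≠ 1) {k m : ℕ} (hk : 0 < k) (f : Fin k → L)
    (h : DepN m ((closure (Set.range fun i => MulAut.conj (f i) * x * (MulAut.conj (f i))⁻¹)).comap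
      (MulAut.conj : L →* MulAut L))) : CA (k + m) x := by
  have hPT : ∀ y : MulAut L, (∃ a : L, y = MulAut.conj a * x * (MulAut.conj a)⁻¹) →
      y ∈ zpowers x ⊔ (MulAut.conj : L →* MulAut L).range := by
    rintro _ ⟨a, rfl⟩
    have h1 : MulAut.conj a ∈ zpowers x ⊔ (MulAut.conj : L →* MulAut L).range := mem_sup_right ⟨a, rfl⟩
    have h2 : x ∈ zpowers x ⊔ (MulAut.conj : L →* MulAut L).range := mem_sup_left (mem_zpowers x)
    exact Subgroup.mul_mem _ (Subgroup.mul_mem _ h1 h2) (Subgroup.inv_mem _ h1)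
  have hfull : ∀ (a : L) (H : Subgroup (MulAut L)), H ≤ zpowers x ⊔ (MulAut.conj : L →* MulAut L).range →
      MulAut.conj a * x * (MulAut.conj a)⁻¹ ∈ H → H.comap (MulAut.conj : L →* MulAut L) = ⊤ →
      H = zpowers x ⊔ (MulAut.conj : L →* MulAut L).range := by
    intro a H hle ha ht
    apply le_antisymm hle
    have hI : ∀ g : L, MulAut.conj g ∈ H := fun g => by
      have : g ∈ H.comap (MulAut.conj : L →* MulAut L) := by rw [ht]; exact mem_top g
      exact this
    apply sup_le
    · rw [zpowers_le]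
      have : x = (MulAut.conj a)⁻¹ * (MulAut.conj a * x * (MulAut.conj a)⁻¹) * MulAut.conj a := by group
      rw [this]
      exact H.mul_mem (H.mul_mem (H.inv_mem (hI a)) ha) (hI a)
    · rintro _ ⟨g, rfl⟩
      exact hI g
  -- for `y = x^a` in `H` and a proper `M` there is a conjugate `y'` with `y' y⁻¹` inner, not in `M`
  have hex : ∀ (a : L) (M : Subgroup L), M ≠ ⊤ → ∃ b c : L, c ∉ M ∧
      MulAut.conj b * x * (MulAut.conj b)⁻¹ * (MulAut.conj a * x * (MulAut.conj a)⁻¹)⁻¹ = MulAut.conj c := by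
    intro a M hM
    have hy : MulAut.conj a * x * (MulAut.conj a)⁻¹ ≠ 1 := by
      intro h0
      apply hx
      have : x = (MulAut.conj a)⁻¹ * (MulAut.conj a * x * (MulAut.conj a)⁻¹) * MulAut.conj a := by group
      rw [this, h0]; group
    obtain ⟨b, hb⟩ := exists_comm_not_mem hy hM
    refine ⟨b * a, _, hb, ?_⟩
    rw [map_mul, map_mul, map_inv, ← aut_conj]
    group
  obtain ⟨g, hg1, hg2⟩ := exists_of_dep (P := fun y : MulAut L => ∃ a : L, y = MulAut.conj a * x * (MulAut.conj a)⁻¹)
    (T := zpowers x ⊔ (MulAut.conj : L →* MulAut L).range) hPT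
    (fun m H => (∃ a : L, MulAut.conj a * x * (MulAut.conj a)⁻¹ ∈ H) ∧ DepN m (H.comap (MulAut.conj : L →* MulAut L)))
    (fun H hle h => by
      obtain ⟨⟨a, ha⟩, h⟩ := h
      exact hfull a H hle ha h)
    (fun n H hle hD hne => by
      obtain ⟨⟨a, ha⟩, hD⟩ := hD
      have hne' : H.comap (MulAut.conj : L →* MulAut L) ≠ ⊤ := fun h => hne (hfull a H hle ha h)
      rcases hD with h | ⟨M, hM, h⟩
      · exact absurd h hne'
      · have key : ∀ b c : L,
            MulAut.conj b * x * (MulAut.conj b)⁻¹ * (MulAut.conj a * x * (MulAut.conj a)⁻¹)⁻¹ = MulAut.conj c →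
            c ∈ (H ⊔ closure {MulAut.conj b * x * (MulAut.conj b)⁻¹}).comap (MulAut.conj : L →* MulAut L) := by
          intro b c hbc
          rw [mem_comap, ← hbc]
          exact Subgroup.mul_mem _ (mem_sup_right (Subgroup.subset_closure rfl))
            (Subgroup.inv_mem _ (mem_sup_left ha))
        by_cases hHM : H.comap (MulAut.conj : L →* MulAut L) ≤ M
        · obtain ⟨b, c, hc, hbc⟩ := hex a M hM
          refine ⟨_, ⟨b, rfl⟩, ⟨a, mem_sup_left ha⟩, h _ ?_ fun hle => hc (hle (key b c hbc))⟩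
          exact lt_of_le_of_ne (Subgroup.comap_mono le_sup_left) fun he => hc (hHM (he ▸ key b c hbc))
        · obtain ⟨b, c, hc, hbc⟩ := hex a _ hne'
          refine ⟨_, ⟨b, rfl⟩, ⟨a, mem_sup_left ha⟩, h _ ?_
            fun hle => hHM ((Subgroup.comap_mono le_sup_left).trans hle)⟩
          exact lt_of_le_of_ne (Subgroup.comap_mono le_sup_left) fun he => hc (he ▸ key b c hbc)) m k _
    (fun i => ⟨f i, rfl⟩) ⟨⟨f ⟨0, hk⟩, Subgroup.subset_closure ⟨⟨0, hk⟩, rfl⟩⟩, h⟩ ⟨x, 1, by simp⟩
  choose a ha using hg1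
  exact ⟨a, by rw [← hg2]; congr 2; funext i; exact (ha i).symm⟩

/-- `q` is the least divisor `> 1` of `b` -/
def minIdx (b q : ℕ) : Bool :=
  Nat.ble 2 q && Nat.ble q 60 && Nat.beq (b % q) 0 && (List.range q).all fun i => Nat.ble i 1 || !(Nat.beq (b % i) 0)

/-- a subgroup of order `a` which is not normal in an overgroup of order `b` (no condition for `a = 1`) -/
def stepOK (a b : ℕ) : Bool := Nat.beq (b % a) 0 && Nat.blt a b && (Nat.ble a 1 || !(minIdx b (b / a)))

/-- heights of the entries of a list of orders (in increasing order) -/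
def hts2 : List ℕ → List (ℕ × ℕ)
  | [] => []
  | a :: t => (a, ((hts2 t).foldr (fun b s => if Nat.blt s (b.2 + 1) && stepOK a b.1 then b.2 + 1 else s) 1)) :: hts2 t

/-- heights `T` (computed by `hts2`): heights are positive, decrease along steps -/
def hgtOK (T : List (ℕ × ℕ)) : Bool :=
  T.all fun a => Nat.blt 0 a.2 && T.all fun b => Nat.blt b.2 a.2 || !(stepOK a.1 b.1)

/-- every chain in `os` has length at most `m` -/
def chainOK2 (os : List ℕ) (m : ℕ) : Bool :=
  match hts2 os with
  | T => hgtOK T && T.all fun a => Nat.ble a.2 m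

/-- every chain in `os` starting with `a` has length at most `m` -/
def chainAt (os : List ℕ) (a m : ℕ) : Bool :=
  match hts2 os with
  | T => hgtOK T && T.all fun x => !(Nat.beq x.1 a) || Nat.ble x.2 m

theorem mem_hts2 {os : List ℕ} {a : ℕ} (h : a ∈ os) : ∃ k, (a, k) ∈ hts2 os := by
  induction os with
  | nil => cases h
  | cons b t ih =>
    rcases List.mem_cons.1 h with rfl | h
    · exact ⟨_, List.mem_cons_self ..⟩
    · obtain ⟨k, hk⟩ := ih h
      exact ⟨k, List.mem_cons_of_mem _ hk⟩

theorem normal_of_minIdx {G : Type*} [Group G] [Finite G] {H : Subgroup G} (h : minIdx (Nat.card G) H.index = true) :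
    H.Normal := by
  apply Subgroup.normal_of_index_eq_minFac_card
  unfold minIdx at h
  simp only [Bool.and_eq_true, Nat.ble_eq, Nat.beq_eq, List.all_eq_true, List.mem_range, Bool.or_eq_true,
    Bool.not_eq_true'] at h
  obtain ⟨⟨⟨h1, -⟩, h2⟩, h3⟩ := h
  symm
  apply le_antisymm
  · exact Nat.minFac_le_of_dvd h1 (Nat.dvd_of_mod_eq_zero h2)
  · by_contra hlt
    push Not at hlt
    rcases h3 _ hlt with h4 | h4
    · have hc1 : Nat.card G ≠ 1 := by
        intro hc
        rw [hc] at h2
        have := Nat.le_of_dvd one_pos (Nat.dvd_of_mod_eq_zero h2)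
        omega
      have := (Nat.minFac_prime hc1).two_le
      omega
    · have h5 := Nat.mod_eq_zero_of_dvd (Nat.minFac_dvd (Nat.card G))
      rw [h5] at h4
      exact absurd h4 (by decide)

theorem le_normalizer_of_minIdx [Finite L] {H K : Subgroup L} (hHK : H ≤ K)
    (h : minIdx (Nat.card K) (Nat.card K / Nat.card H) = true) : K ≤ normalizer (H : Set L) := by
  have h1 : (H.subgroupOf K).index = Nat.card K / Nat.card H := by
    have h2 := Subgroup.card_mul_index (H.subgroupOf K)
    rw [Nat.card_congr (Subgroup.subgroupOfEquivOfLe hHK).toEquiv] at h2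
    rw [← h2, Nat.mul_div_cancel_left _ Nat.card_pos]
  rw [← h1] at h
  have h2 : (H.subgroupOf K).Normal := normal_of_minIdx h
  exact (Subgroup.normal_subgroupOf_iff_le_normalizer hHK).1 h2

theorem depN_key [Finite L] [IsSimpleGroup L] {os : List ℕ} {H0 : Subgroup L}
    (hos : ∀ K : Subgroup L, H0 ≤ K → K ≠ ⊤ → Nat.card K ∈ os) (hc : hgtOK (hts2 os) = true) :
    ∀ (h : ℕ) (H : Subgroup L), H0 ≤ H → (Nat.card H, h) ∈ hts2 os → DepN h H := by
  unfold hgtOK at hc
  rw [List.all_eq_true] at hc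
  intro h
  induction h using Nat.strong_induction_on with
  | _ h ih =>
    intro H hH hmem
    by_cases htop : H = ⊤
    · rw [htop]; exact depN_top _
    have h1 := hc _ hmem
    simp only [Bool.and_eq_true, Nat.blt_eq, List.all_eq_true, Bool.or_eq_true, Bool.not_eq_true'] at h1
    obtain ⟨h3, h4⟩ := h1
    obtain ⟨h', rfl⟩ : ∃ h', h = h' + 1 := ⟨h - 1, by omega⟩
    right
    have key : ∀ K : Subgroup L, H < K → (H ≠ ⊥ → ¬ K ≤ normalizer (H : Set L)) → DepN h' K := by
      intro K hK hn
      by_cases ht : K = ⊤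
      · rw [ht]; exact depN_top _
      · obtain ⟨j, hj⟩ := mem_hts2 (hos K (hH.trans hK.le) ht)
        have hd : Nat.card H ∣ Nat.card K := Subgroup.card_dvd_of_le hK.le
        have hlt : Nat.card H < Nat.card K := by
          apply lt_of_le_of_ne (Nat.le_of_dvd Nat.card_pos hd)
          intro he
          apply hK.ne
          exact Subgroup.eq_of_le_of_card_ge hK.le he.symm.le
        have hst : stepOK (Nat.card H) (Nat.card K) = true := by
          unfold stepOK
          simp only [Bool.and_eq_true, Nat.beq_eq, Nat.blt_eq, Bool.or_eq_true, Nat.ble_eq, Bool.not_eq_true']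
          refine ⟨⟨Nat.mod_eq_zero_of_dvd hd, hlt⟩, ?_⟩
          by_cases hb : Nat.card H ≤ 1
          · exact Or.inl hb
          · right
            have hHb : H ≠ ⊥ := by
              rintro rfl
              apply hb
              rw [Subgroup.card_bot]
            cases hm : minIdx (Nat.card K) (Nat.card K / Nat.card H)
            · rfl
            · exact absurd (le_normalizer_of_minIdx hK.le hm) (hn hHb)
        have hj2 : j < h' + 1 := by
          rcases h4 _ hj with h5 | h5
          · exact h5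
          · rw [hst] at h5
            exact absurd h5 (by decide)
        exact (ih j hj2 K (hH.trans hK.le) hj).mono (by omega)
    by_cases hb : H = ⊥
    · exact ⟨⊥, bot_ne_top, fun K hK _ => key K hK fun h => absurd hb h⟩
    · refine ⟨normalizer (H : Set L), ?_, fun K hK hKM => key K hK fun _ => hKM⟩
      intro hn
      have : H.Normal := Subgroup.normalizer_eq_top_iff.1 hn
      rcases this.eq_bot_or_eq_top with h | h
      · exact hb h
      · exact htop h

theorem depN_of_chainOK2 [Finite L] [IsSimpleGroup L] {H : Subgroup L} (os : List ℕ) (m : ℕ)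
    (hos : ∀ K : Subgroup L, H ≤ K → K ≠ ⊤ → Nat.card K ∈ os) (hc : chainOK2 os m = true) : DepN m H := by
  unfold chainOK2 at hc
  simp only [Bool.and_eq_true, List.all_eq_true, Nat.ble_eq] at hc
  by_cases ht : H = ⊤
  · rw [ht]; exact depN_top _
  · obtain ⟨h, hh⟩ := mem_hts2 (hos H le_rfl ht)
    exact (depN_key hos hc.1 h H le_rfl hh).mono (hc.2 _ hh)

theorem depN_of_chainAt [Finite L] [IsSimpleGroup L] {H : Subgroup L} (os : List ℕ) {a m : ℕ} (ha : Nat.card H = a)
    (hos : ∀ K : Subgroup L, H ≤ K → K ≠ ⊤ → Nat.card K ∈ os) (hc : chainAt os a m = true) : DepN m H := by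
  unfold chainAt at hc
  simp only [Bool.and_eq_true, List.all_eq_true, Nat.ble_eq, Bool.or_eq_true, Bool.not_eq_true'] at hc
  by_cases ht : H = ⊤
  · rw [ht]; exact depN_top _
  · obtain ⟨h, hh⟩ := mem_hts2 (hos H le_rfl ht)
    refine (depN_key hos hc.1 h H le_rfl hh).mono ?_
    rcases hc.2 _ hh with h1 | h1
    · exfalso
      have h2 : Nat.beq (Nat.card H) a = true := by rw [Nat.beq_eq]; exact ha
      exact Bool.false_ne_true (h1.symm.trans h2)
    · exact h1

end DepN

section Eng

variable {L : Type u} [Group L] {l : List (ℕ × ℕ)} {n : ℕ} {ords : List ℕ} {loc : List LD}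

/-- engine + chain with non-normal steps, inner version -/
theorem CG.of_eng2 (c : Ctx L l n ords loc) {a m : ℕ} (os : List ℕ)
    (ho : ∀ K : Subgroup L, a ∣ Nat.card K → K ≠ ⊤ → Nat.card K ∈ os) (hm : chainOK2 os m = true)
    {x : L} (hx : x ≠ 1) {k : ℕ} (f : Fin k → L) (ha : a ∣ Nat.card (closure (Set.range fun i => f i * x * (f i)⁻¹))) :
    CG (k + m) x := by
  have := c.fin
  have := c.simple
  exact CG.of_depN hx f (depN_of_chainOK2 os m
    (fun K hK hne => ho K (ha.trans (Subgroup.card_dvd_of_le hK)) hne) hm)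

/-- engine + chain with non-normal steps, automorphisms -/
theorem CA.of_eng2 (c : Ctx L l n ords loc) {a m : ℕ} (os : List ℕ)
    (ho : ∀ K : Subgroup L, a ∣ Nat.card K → K ≠ ⊤ → Nat.card K ∈ os) (hm : chainOK2 os m = true)
    {x : MulAut L} (hx : x ≠ 1) {k : ℕ} (hk : 0 < k) (f : Fin k → L)
    (ha : a ∣ Nat.card ((closure (Set.range fun i => MulAut.conj (f i) * x * (MulAut.conj (f i))⁻¹)).comap
      (MulAut.conj : L →* MulAut L))) : CA (k + m) x := by
  have := c.fin
  have := c.simple
  exact CA.of_depN hx hk f (depN_of_chainOK2 os m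
    (fun K hK hne => ho K (ha.trans (Subgroup.card_dvd_of_le hK)) hne) hm)

end Eng

/-- everything by the chain (all orders of proper subgroups in `os`) -/
theorem gen11_of_chain {L : Type*} [Group L] [Finite L] [IsSimpleGroup L] (os : List ℕ)
    (ho : ∀ K : Subgroup L, K ≠ ⊤ → Nat.card K ∈ os) (hm : chainOK2 os 10 = true) : Gen11 L := by
  intro x hx
  have hx1 : x ≠ 1 := by
    rintro rfl
    rw [orderOf_one] at hx
    exact hx.one_lt.ne rfl
  exact CA.of_depN (k := 1) (m := 10) hx1 one_pos (fun _ => 1) (depN_of_chainOK2 os 10 (fun K _ hne => ho K hne) hm)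

/-- the inner part by the chain -/
theorem genI_of_chain {L : Type*} [Group L] [Finite L] [IsSimpleGroup L] (os : List ℕ)
    (ho : ∀ K : Subgroup L, K ≠ ⊤ → K ≠ ⊥ → Nat.card K ∈ os) {m : ℕ} (hm : chainOK2 os m = true) {p : ℕ} (hp : p.Prime) :
    GenI L (1 + m) p := by
  intro g hg
  have hg1 : g ≠ 1 := by
    rintro rfl
    rw [orderOf_one] at hg
    exact hp.one_lt.ne hg
  apply CG.of_depN (k := 1) (m := m) hg1 (fun _ => 1)
  apply depN_of_chainOK2 os m _ hm
  intro K hK hne
  apply ho K hne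
  rintro rfl
  apply hg1
  have h1 : g ∈ closure (Set.range fun _ : Fin 1 => (1 : L) * g * (1 : L)⁻¹) := Subgroup.subset_closure ⟨0, by simp⟩
  exact (mem_bot).1 (hK h1)

/-- all orders by Lagrange -/
theorem mem_of_divs {L : Type*} [Group L] [Finite L] {n : ℕ} (hn : Nat.card L = n) (l : List (ℕ × ℕ)) (os : List ℕ)
    (h : ((l.all fun x => isPrimeB x.1) && Nat.beq (prodl l) n && (divsT l).all fun d => Nat.beq d n || os.contains d) = true)
    {K : Subgroup L} (hK : K ≠ ⊤) : Nat.card K ∈ os := by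
  simp only [Bool.and_eq_true, List.all_eq_true, Nat.beq_eq, Bool.or_eq_true, List.contains_iff_mem] at h
  obtain ⟨⟨h1, h2⟩, h3⟩ := h
  have hd : Nat.card K ∣ prodl l := by rw [h2, ← hn]; exact Subgroup.card_subgroup_dvd_card K
  rcases h3 _ (mem_divsT (fun x hx => prime_of (h1 x hx)) hd) with h4 | h4
  · exfalso
    apply hK
    apply Subgroup.eq_top_of_card_eq
    rw [h4, hn]
  · exact h4

/-- everything by the chain of divisors -/
theorem gen11_of_divs {L : Type*} [Group L] [Finite L] [IsSimpleGroup L] {n : ℕ} (hn : Nat.card L = n) (l : List (ℕ × ℕ))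
    (os : List ℕ)
    (h : ((l.all fun x => isPrimeB x.1) && Nat.beq (prodl l) n && (divsT l).all fun d => Nat.beq d n || os.contains d) = true)
    (hm : chainOK2 os 10 = true) : Gen11 L :=
  gen11_of_chain os (fun _ hK => mem_of_divs hn l os h hK) hm

end Cfsg.Agent.H147.Gen
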