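import Cfsg.Agent.H147.Gen.Chain2

/-!
# S4327: first step for outer automorphisms (helper147)

`exists_sq_ne_one` : for `x ≠ 1` in `Aut L`, `L` simple nonabelian, some `b = t * x(t)⁻¹` has `b ^ 2 ≠ 1`; it lies in the group generated by
two conjugates of `x`. `CA.of_two` : if all entries `> 2` of `os` have height at most `m` then `CA (2 + m) x`.
-/

set_option autoImplicit false

namespace Cfsg.Agent.H147.Gen

open Subgroup

variable {L : Type*} [Group L]

/-- the element `t * x(t)⁻¹` lies in the group generated by two conjugates of `x` -/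
theorem comm_mem_comap (x : MulAut L) (t : L) : t * (x t)⁻¹ ∈ (closure (Set.range fun i =>
    MulAut.conj ((![t, 1] : Fin 2 → L) i) * x * (MulAut.conj ((![t, 1] : Fin 2 → L) i))⁻¹)).comap
      (MulAut.conj : L →* MulAut L) := by
  rw [mem_comap, map_mul, map_inv, ← aut_conj]
  have h1 : x ∈ closure (Set.range fun i =>
      MulAut.conj ((![t, 1] : Fin 2 → L) i) * x * (MulAut.conj ((![t, 1] : Fin 2 → L) i))⁻¹) :=
    Subgroup.subset_closure ⟨1, by simp⟩
  have h2 : MulAut.conj t * x * (MulAut.conj t)⁻¹ ∈ closure (Set.range fun i =>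
      MulAut.conj ((![t, 1] : Fin 2 → L) i) * x * (MulAut.conj ((![t, 1] : Fin 2 → L) i))⁻¹) :=
    Subgroup.subset_closure ⟨0, by simp⟩
  have h3 := Subgroup.mul_mem _ h2 (Subgroup.inv_mem _ h1)
  convert h3 using 1
  group

theorem exists_sq_ne_one [IsSimpleGroup L] (hc : center L = ⊥) {x : MulAut L} (hx : x ≠ 1) :
    ∃ t : L, (t * (x t)⁻¹) ^ 2 ≠ 1 := by
  by_contra hno
  have hall : ∀ t : L, (t * (x t)⁻¹) ^ 2 = 1 := fun t => by_contra fun h => hno ⟨t, h⟩
  have hcomm : ∀ s t : L, s * (t * (x t)⁻¹) * s⁻¹ * (s * (x s)⁻¹) = (s * (x s)⁻¹) * (s * (t * (x t)⁻¹) * s⁻¹) := by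
    intro s t
    set a := s * (t * (x t)⁻¹) * s⁻¹ with ha
    set b := s * (x s)⁻¹ with hb
    have h1 : (a * b) ^ 2 = 1 := by
      have h2 : a * b = s * t * (x (s * t))⁻¹ := by rw [ha, hb, map_mul]; group
      rw [h2]
      exact hall _
    have h3 : a ^ 2 = 1 := by
      rw [ha, conj_pow, hall t, mul_one, mul_inv_cancel]
    have h4 : b ^ 2 = 1 := hall s
    have h5 : a⁻¹ = a := by rw [inv_eq_iff_mul_eq_one, ← sq, h3]
    have h6 : b⁻¹ = b := by rw [inv_eq_iff_mul_eq_one, ← sq, h4]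
    have h7 : (a * b)⁻¹ = a * b := by rw [inv_eq_iff_mul_eq_one, ← sq, h1]
    rw [mul_inv_rev, h5, h6] at h7
    exact h7.symm
  -- a nontrivial element commuting with the whole normal closure
  obtain ⟨t, ht⟩ := exists_comm_not_mem (M := (⊥ : Subgroup L)) hx bot_ne_top
  rw [mem_bot] at ht
  -- all `s * (x s)⁻¹` commute with all conjugates of `t * (x t)⁻¹`
  have hall2 : ∀ s u : L, Commute (u * (t * (x t)⁻¹) * u⁻¹) (s * (x s)⁻¹) := by
    intro s u
    have e1 : u * (t * (x t)⁻¹) * u⁻¹ = (u * t * (x (u * t))⁻¹) * (u * (x u)⁻¹)⁻¹ := by rw [map_mul]; group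
    -- conjugate by s
    have key : ∀ w : L, Commute (s * (w * (x w)⁻¹) * s⁻¹) (s * (x s)⁻¹) := fun w => hcomm s w
    have h8 : ∀ w : L, Commute (s * (w * (x w)⁻¹) * s⁻¹) (s * (x s)⁻¹) := key
    -- any conjugate of `t x(t)⁻¹` is `s * (product of such) * s⁻¹`
    have e2 : u * (t * (x t)⁻¹) * u⁻¹ = (s * ((s⁻¹ * u * t) * (x (s⁻¹ * u * t))⁻¹) * s⁻¹) *
        (s * ((s⁻¹ * u) * (x (s⁻¹ * u))⁻¹) * s⁻¹)⁻¹ := by
      simp only [map_mul, map_inv]; group
    rw [e2]
    exact (h8 _).mul_left (h8 _).inv_left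
  have hcen : centralizer ((Set.range fun s : L => s * (x s)⁻¹)) = ⊤ := by
    by_contra hne
    obtain ⟨u, hu⟩ := exists_conj_not_mem ht hne
    apply hu
    rw [mem_centralizer_iff]
    rintro _ ⟨s, rfl⟩
    exact (hall2 s u).eq.symm
  have h9 : t * (x t)⁻¹ ∈ center L := by
    rw [mem_center_iff]
    intro g
    have h10 : g ∈ centralizer ((Set.range fun s : L => s * (x s)⁻¹)) := by rw [hcen]; exact mem_top g
    exact (mem_centralizer_iff.1 h10 _ ⟨t, rfl⟩).symm
  rw [hc, mem_bot] at h9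
  exact ht h9

/-- two conjugates, then the chain -/
theorem CA.of_two [IsSimpleGroup L] [Finite L] (hc : center L = ⊥) {x : MulAut L} (hx : x ≠ 1) (os : List ℕ)
    (ho : ∀ K : Subgroup L, K ≠ ⊤ → 2 < Nat.card K → Nat.card K ∈ os) {m : ℕ} (hm : chainOK2 os m = true) :
    CA (2 + m) x := by
  obtain ⟨t, ht⟩ := exists_sq_ne_one hc hx
  apply CA.of_depN hx two_pos (![t, 1] : Fin 2 → L)
  have h1 := comm_mem_comap x t
  apply depN_of_chainOK2 os m _ hm
  intro K hK hne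
  apply ho K hne
  have h2 := hK h1
  have h3 : orderOf (t * (x t)⁻¹) ∣ Nat.card K := by
    rw [← Subgroup.orderOf_mk _ h2]
    exact orderOf_dvd_natCard _
  have h4 : ¬ orderOf (t * (x t)⁻¹) ∣ 2 := fun h => ht (orderOf_dvd_iff_pow_eq_one.1 h)
  have h5 : 0 < Nat.card K := Nat.card_pos
  have h6 : 0 < orderOf (t * (x t)⁻¹) := Nat.pos_of_dvd_of_pos h3 h5
  have h7 : orderOf (t * (x t)⁻¹) ≤ Nat.card K := Nat.le_of_dvd h5 h3
  have h8 : 2 < orderOf (t * (x t)⁻¹) := by
    by_contra hle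
    interval_cases (orderOf (t * (x t)⁻¹)) <;> omega
  omega

end Cfsg.Agent.H147.Gen
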