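import Mathlib

/-!
# S4327, sporadic groups: base file (helper147)

* `CG k x` : some `k` conjugates of `x` generate the group;
* `CA k x` : the same for an automorphism (`k` conjugates under inner automorphisms generate `⟨x, Inn L⟩`);
* `GenI k p L`, `GenO k L`, `Gen11 L`; `gen11_of`, `gen11_of_inner`, `Gen11.congr`, `GenI.congr`, `GenO.congr`;
* CHAIN: `Dep m H` (every strictly increasing chain of subgroups `H = H_0 < H_1 < ... < H_m` ends in `⊤`),
  `CG.of_dep`, `CA.of_dep`, arithmetic versions `dep_of_orders`, `CG.of_orders`, `CA.of_orders`;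
* ORBIT: `CG.of_orbit`, `CA.of_orbit`;
* INV: `exists_closure_of_normalize`.
-/

set_option autoImplicit false

namespace Cfsg.Agent.H147.Gen

open Subgroup

section Def

variable {L : Type*} [Group L]

/-- some `k` conjugates of `x` generate `L` -/
def CG (k : ℕ) (x : L) : Prop := ∃ f : Fin k → L, closure (Set.range fun i => f i * x * (f i)⁻¹) = ⊤

/-- some `k` conjugates of the automorphism `x` under inner automorphisms generate `⟨x, Inn L⟩` -/
def CA (k : ℕ) (x : MulAut L) : Prop :=
  ∃ f : Fin k → L, closure (Set.range fun i => MulAut.conj (f i) * x * (MulAut.conj (f i))⁻¹) =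
    zpowers x ⊔ (MulAut.conj : L →* MulAut L).range

variable (L) in
/-- all elements of order `p` -/
def GenI (k p : ℕ) : Prop := ∀ g : L, orderOf g = p → CG k g

variable (L) in
/-- all outer automorphisms of order 2 -/
def GenO (k : ℕ) : Prop := ∀ x : MulAut L, orderOf x = 2 → x ∉ (MulAut.conj : L →* MulAut L).range → CA k x

variable (L) in
/-- the row of S4327 -/
def Gen11 : Prop := ∀ x : MulAut L, (orderOf x).Prime → CA 11 x

end Def

section CG

variable {L : Type*} [Group L]

theorem closure_range_append {k l : ℕ} {M : Type*} [Group M] (a : Fin k → M) (b : Fin l → M) :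
    closure (Set.range (Fin.append a b)) = closure (Set.range a) ⊔ closure (Set.range b) := by
  rw [← Subgroup.closure_union]
  congr 1
  ext y
  constructor
  · rintro ⟨i, rfl⟩
    refine Fin.addCases (fun j => ?_) (fun j => ?_) i
    · rw [Fin.append_left]; exact Or.inl ⟨j, rfl⟩
    · rw [Fin.append_right]; exact Or.inr ⟨j, rfl⟩
  · rintro (⟨i, rfl⟩ | ⟨i, rfl⟩)
    · exact ⟨Fin.castAdd l i, Fin.append_left _ _ _⟩
    · exact ⟨Fin.natAdd k i, Fin.append_right _ _ _⟩

theorem CG.mono {k l : ℕ} {x : L} (h : CG k x) (hkl : k ≤ l) : CG l x := by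
  obtain ⟨f, hf⟩ := h
  obtain ⟨m, rfl⟩ := Nat.exists_eq_add_of_le hkl
  refine ⟨Fin.append f (fun _ => 1), ?_⟩
  rw [eq_top_iff, ← hf, closure_le]
  rintro _ ⟨i, rfl⟩
  exact Subgroup.subset_closure ⟨Fin.castAdd m i, by simp [Fin.append_left]⟩

theorem CG.of_conj {k : ℕ} {x : L} (a : L) (h : CG k (a * x * a⁻¹)) : CG k x := by
  obtain ⟨f, hf⟩ := h
  refine ⟨fun i => f i * a, ?_⟩
  rw [← hf]
  congr 2
  funext i
  group

theorem CG.conj {k : ℕ} {x : L} (a : L) (h : CG k x) : CG k (a * x * a⁻¹) := by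
  apply CG.of_conj a⁻¹
  have : a⁻¹ * (a * x * a⁻¹) * a⁻¹⁻¹ = x := by group
  rwa [this]

theorem CG.of_isConj {k : ℕ} {x y : L} (hc : IsConj x y) (h : CG k x) : CG k y := by
  obtain ⟨a, rfl⟩ := isConj_iff.1 hc
  exact h.conj a

theorem CG.map {M : Type*} [Group M] {k : ℕ} {x : L} (e : L →* M) (he : Function.Surjective e) (h : CG k x) :
    CG k (e x) := by
  obtain ⟨f, hf⟩ := h
  refine ⟨fun i => e (f i), ?_⟩
  have : (Set.range fun i => e (f i) * e x * (e (f i))⁻¹) = e '' (Set.range fun i => f i * x * (f i)⁻¹) := by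
    rw [← Set.range_comp]
    congr 1
    funext i
    simp
  rw [this, ← MonoidHom.map_closure, hf, ← MonoidHom.range_eq_map, MonoidHom.range_eq_top]
  exact he

theorem CG.congr {M : Type*} [Group M] {k : ℕ} {x : L} (e : L ≃* M) (h : CG k x) : CG k (e x) :=
  h.map e.toMonoidHom e.surjective

/-- if a power of `x` does it, so does `x` -/
theorem CG.of_pow {k m : ℕ} {x : L} (h : CG k (x ^ m)) : CG k x := by
  obtain ⟨f, hf⟩ := h
  refine ⟨f, ?_⟩
  rw [eq_top_iff, ← hf, closure_le]
  rintro _ ⟨i, rfl⟩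
  have : f i * x ^ m * (f i)⁻¹ = (f i * x * (f i)⁻¹) ^ m := by rw [conj_pow]
  show f i * x ^ m * (f i)⁻¹ ∈ closure (Set.range fun i => f i * x * (f i)⁻¹)
  rw [this]
  exact Subgroup.pow_mem _ (Subgroup.subset_closure (Set.mem_range_self i)) m

/-- conjugates in an overgroup -/
theorem exists_of_subgroup {k : ℕ} {S : Subgroup L} {x : L} (hx : x ∈ S) (h : CG k (⟨x, hx⟩ : S)) :
    ∃ f : Fin k → L, closure (Set.range fun i => f i * x * (f i)⁻¹) = S := by
  obtain ⟨f, hf⟩ := h
  refine ⟨fun i => f i, ?_⟩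
  have h1 := congrArg (Subgroup.map S.subtype) hf
  rw [MonoidHom.map_closure, ← Set.range_comp, ← MonoidHom.range_eq_map, Subgroup.range_subtype] at h1
  exact h1

end CG

section Aut

variable {L : Type*} [Group L]

theorem conj_inj (hc : center L = ⊥) : Function.Injective (MulAut.conj : L →* MulAut L) := by
  rw [injective_iff_map_eq_one]
  intro g hg
  have : g ∈ center L := by
    rw [mem_center_iff]
    intro h
    have h1 := DFunLike.congr_fun hg h
    simp only [MulAut.conj_apply, MulAut.one_apply] at h1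
    rw [mul_inv_eq_iff_eq_mul] at h1
    exact h1.symm
  rwa [hc, mem_bot] at this

theorem aut_conj (x : MulAut L) (g : L) : x * MulAut.conj g * x⁻¹ = MulAut.conj (x g) := by
  ext y
  simp [MulAut.conj_apply]

instance conj_range_normal : ((MulAut.conj : L →* MulAut L).range).Normal :=
  ⟨by rintro _ ⟨g, rfl⟩ x; exact ⟨x g, (aut_conj x g).symm⟩⟩

theorem CG.ca {k : ℕ} {g : L} (h : CG k g) : CA k (MulAut.conj g) := by
  obtain ⟨f, hf⟩ := h
  refine ⟨f, ?_⟩
  have h1 : zpowers (MulAut.conj g) ≤ (MulAut.conj : L →* MulAut L).range := by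
    rw [zpowers_le]; exact ⟨g, rfl⟩
  rw [sup_eq_right.2 h1]
  have : (Set.range fun i => MulAut.conj (f i) * MulAut.conj g * (MulAut.conj (f i))⁻¹) =
      (MulAut.conj : L →* MulAut L) '' (Set.range fun i => f i * g * (f i)⁻¹) := by
    rw [← Set.range_comp]
    congr 1
    funext i
    simp only [Function.comp_apply, map_mul, map_inv]
  rw [this, ← MonoidHom.map_closure, hf, MonoidHom.range_eq_map]

theorem CA.mono {k l : ℕ} {x : MulAut L} (h : CA k x) (hk : 0 < k) (hkl : k ≤ l) : CA l x := by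
  obtain ⟨f, hf⟩ := h
  obtain ⟨m, rfl⟩ := Nat.exists_eq_add_of_le hkl
  let h0 : Fin k := ⟨0, hk⟩
  refine ⟨Fin.append f (fun _ => f h0), ?_⟩
  rw [← hf]
  apply le_antisymm
  · rw [closure_le]
    rintro _ ⟨i, rfl⟩
    refine Fin.addCases (fun j => ?_) (fun j => ?_) i
    · exact Subgroup.subset_closure ⟨j, by simp [Fin.append_left]⟩
    · exact Subgroup.subset_closure ⟨h0, by simp [Fin.append_right]⟩
  · rw [closure_le]
    rintro _ ⟨i, rfl⟩
    exact Subgroup.subset_closure ⟨Fin.castAdd m i, by simp [Fin.append_left]⟩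

/-- the rows from the inner and outer parts -/
theorem gen11_of (hc : center L = ⊥) (hI : ∀ p : ℕ, p.Prime → GenI L 11 p)
    (h2 : ∀ x : MulAut L, (orderOf x).Prime → x ∉ (MulAut.conj : L →* MulAut L).range → orderOf x = 2)
    (hO : GenO L 11) : Gen11 L := by
  intro x hx
  by_cases h : x ∈ (MulAut.conj : L →* MulAut L).range
  · obtain ⟨g, rfl⟩ := h
    have := orderOf_injective _ (conj_inj hc) g
    exact (hI (orderOf g) (this ▸ hx) g rfl).ca
  · exact hO x (h2 x hx h) h

theorem gen11_of_inner (hc : center L = ⊥) (hI : ∀ p : ℕ, p.Prime → GenI L 11 p)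
    (h : ∀ x : MulAut L, x ∈ (MulAut.conj : L →* MulAut L).range) : Gen11 L :=
  gen11_of hc hI (fun x _ hn => absurd (h x) hn) (fun x _ hn => absurd (h x) hn)

theorem GenI.mono {k l p : ℕ} (h : GenI L k p) (hkl : k ≤ l) : GenI L l p := fun g hg => (h g hg).mono hkl

theorem GenI.congr {M : Type*} [Group M] {k p : ℕ} (e : L ≃* M) (h : GenI L k p) : GenI M k p := by
  intro g hg
  have h1 := (h (e.symm g) (by rw [MulEquiv.orderOf_eq]; exact hg)).congr e
  rwa [MulEquiv.apply_symm_apply] at h1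

/-- transport of automorphisms -/
theorem CA.congr {M : Type*} [Group M] {k : ℕ} {x : MulAut L} (e : L ≃* M) (h : CA k x) :
    CA k (MulAut.congr e x) := by
  obtain ⟨f, hf⟩ := h
  refine ⟨fun i => e (f i), ?_⟩
  have hcj : ∀ g : L, MulAut.congr e (MulAut.conj g) = MulAut.conj (e g) := by
    intro g; ext y; simp [MulAut.congr, MulAut.conj_apply]
  have h1 := congrArg (Subgroup.map (MulAut.congr e).toMonoidHom) hf
  rw [MonoidHom.map_closure, Subgroup.map_sup, ← Set.range_comp, MonoidHom.map_zpowers] at h1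
  have h2 : Subgroup.map (MulAut.congr e).toMonoidHom (MulAut.conj : L →* MulAut L).range =
      (MulAut.conj : M →* MulAut M).range := by
    ext y
    constructor
    · rintro ⟨_, ⟨g, rfl⟩, rfl⟩
      exact ⟨e g, (hcj g).symm⟩
    · rintro ⟨g, rfl⟩
      exact ⟨MulAut.conj (e.symm g), ⟨_, rfl⟩, by
        show MulAut.congr e (MulAut.conj (e.symm g)) = _
        rw [hcj, MulEquiv.apply_symm_apply]⟩
  rw [h2] at h1
  have h3 : (Set.range fun i => MulAut.conj (e (f i)) * MulAut.congr e x * (MulAut.conj (e (f i)))⁻¹) =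
      Set.range (⇑(MulAut.congr e).toMonoidHom ∘ fun i => MulAut.conj (f i) * x * (MulAut.conj (f i))⁻¹) := by
    congr 1
    funext i
    show _ = MulAut.congr e (MulAut.conj (f i) * x * (MulAut.conj (f i))⁻¹)
    rw [map_mul, map_mul, map_inv, hcj]
  rw [h3]
  exact h1

theorem congr_mem_range {M : Type*} [Group M] (e : L ≃* M) (x : MulAut L) :
    MulAut.congr e x ∈ (MulAut.conj : M →* MulAut M).range ↔ x ∈ (MulAut.conj : L →* MulAut L).range := by
  constructor
  · rintro ⟨g, hg⟩
    refine ⟨e.symm g, ?_⟩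
    ext y
    have := DFunLike.congr_fun hg (e y)
    simp only [MulAut.conj_apply, MulAut.congr, MulEquiv.coe_mk, Equiv.coe_fn_mk, MulEquiv.trans_apply,
      MulEquiv.symm_apply_apply] at this
    apply e.injective
    rw [MulAut.conj_apply, map_mul, map_mul, map_inv, MulEquiv.apply_symm_apply]
    exact this
  · rintro ⟨g, rfl⟩
    exact ⟨e g, by ext y; simp [MulAut.congr, MulAut.conj_apply]⟩

theorem GenO.congr {M : Type*} [Group M] {k : ℕ} (e : L ≃* M) (h : GenO L k) : GenO M k := by
  intro x hx hn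
  have h1 := (h (MulAut.congr e.symm x) (by rw [MulEquiv.orderOf_eq]; exact hx)
    (by rw [congr_mem_range]; exact hn)).congr e
  convert h1 using 1
  ext y; simp [MulAut.congr]

theorem Gen11.congr {M : Type*} [Group M] (e : L ≃* M) (h : Gen11 L) : Gen11 M := by
  intro x hx
  have h1 := (h (MulAut.congr e.symm x) (by rw [MulEquiv.orderOf_eq]; exact hx)).congr e
  convert h1 using 1
  ext y; simp [MulAut.congr]

end Aut

/-! ### chain of subgroups -/

section Chain

variable {L : Type*} [Group L]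

/-- every strictly increasing chain of subgroups starting with `H` reaches `⊤` after at most `m` steps -/
def Dep : ℕ → Subgroup L → Prop
  | 0, H => H = ⊤
  | m + 1, H => H = ⊤ ∨ ∀ K : Subgroup L, H < K → Dep m K

theorem Dep.succ {m : ℕ} {H : Subgroup L} (h : Dep m H) : Dep (m + 1) H := by
  induction m generalizing H with
  | zero => exact Or.inl h
  | succ m ih =>
    rcases h with h | h
    · exact Or.inl h
    · exact Or.inr fun K hK => ih (h K hK)

theorem Dep.mono {m n : ℕ} {H : Subgroup L} (h : Dep m H) (hmn : m ≤ n) : Dep n H := by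
  induction hmn with
  | refl => exact h
  | step _ ih => exact ih.succ

/-- chain lemma with arbitrary generators: `P` is a set of elements, no proper subgroup contains `P` -/
theorem exists_of_dep {M : Type*} [Group M] {P : M → Prop} {T : Subgroup M} (hP : ∀ y, P y → y ∈ T)
    (D : ℕ → Subgroup M → Prop) (h0 : ∀ H, H ≤ T → D 0 H → H = T)
    (hs : ∀ m H, H ≤ T → D (m + 1) H → H ≠ T → ∃ y, P y ∧ D m (H ⊔ closure {y})) :
    ∀ (m k : ℕ) (f : Fin k → M), (∀ i, P (f i)) → D m (closure (Set.range f)) →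
      (∃ y, P y) → ∃ g : Fin (k + m) → M, (∀ i, P (g i)) ∧ closure (Set.range g) = T := by
  intro m
  induction m with
  | zero =>
    intro k f hf hD _
    refine ⟨f, hf, h0 _ ?_ hD⟩
    rw [closure_le]
    rintro _ ⟨i, rfl⟩
    exact hP _ (hf i)
  | succ m ih =>
    intro k f hf hD hy
    have hle : closure (Set.range f) ≤ T := by
      rw [closure_le]
      rintro _ ⟨i, rfl⟩
      exact hP _ (hf i)
    by_cases hT : closure (Set.range f) = T
    · obtain ⟨y, hy⟩ := hy
      rcases Nat.eq_zero_or_pos k with rfl | hk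
      · refine ⟨fun _ => y, fun _ => hy, ?_⟩
        apply le_antisymm
        · rw [closure_le]
          rintro _ ⟨i, rfl⟩
          exact hP _ hy
        · rw [← hT, closure_le]
          rintro _ ⟨i, rfl⟩
          exact i.elim0
      · refine ⟨Fin.append f (fun _ => f ⟨0, hk⟩), ?_, ?_⟩
        · intro i
          refine Fin.addCases (fun j => ?_) (fun j => ?_) i
          · rw [Fin.append_left]; exact hf j
          · rw [Fin.append_right]; exact hf _
        · rw [closure_range_append, hT, sup_eq_left, closure_le]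
          rintro _ ⟨i, rfl⟩
          exact hP _ (hf _)
    · obtain ⟨y, hy1, hy2⟩ := hs m _ hle hD hT
      have h1 : closure (Set.range (Fin.append f (fun _ : Fin 1 => y))) = closure (Set.range f) ⊔ closure {y} := by
        rw [closure_range_append]
        congr 1
        congr 1
        ext z
        constructor
        · rintro ⟨i, rfl⟩; rfl
        · rintro rfl; exact ⟨0, rfl⟩
      obtain ⟨g, hg1, hg2⟩ := ih (k + 1) (Fin.append f (fun _ : Fin 1 => y)) (by
        intro i
        refine Fin.addCases (fun j => ?_) (fun j => ?_) i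
        · rw [Fin.append_left]; exact hf j
        · rw [Fin.append_right]; exact hy1) (by rw [h1]; exact hy2) hy
      have e : k + 1 + m = k + (m + 1) := by omega
      refine ⟨fun i => g (Fin.cast e.symm i), fun i => hg1 _, ?_⟩
      rw [← hg2]
      congr 1
      ext z
      constructor
      · rintro ⟨i, rfl⟩; exact ⟨_, rfl⟩
      · rintro ⟨i, rfl⟩; exact ⟨Fin.cast e i, rfl⟩

/-- a conjugate outside a given proper subgroup of a simple group -/
theorem exists_conj_not_mem [IsSimpleGroup L] {x : L} (hx : x ≠ 1) {H : Subgroup L} (hH : H ≠ ⊤) :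
    ∃ g : L, g * x * g⁻¹ ∉ H := by
  by_contra hno0
  have hno : ∀ g : L, g * x * g⁻¹ ∈ H := fun g => by_contra fun h => hno0 ⟨g, h⟩
  apply hH
  rw [eq_top_iff]
  have h1 : normalClosure {x} ≤ H := by
    rw [normalClosure, closure_le]
    intro y hy
    obtain ⟨z, hz, hzy⟩ := Group.mem_conjugatesOfSet_iff.1 hy
    rw [Set.mem_singleton_iff] at hz
    subst hz
    obtain ⟨a, rfl⟩ := isConj_iff.1 hzy
    exact hno a
  rcases (inferInstance : (normalClosure {x}).Normal).eq_bot_or_eq_top with h | h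
  · exfalso
    apply hx
    have : x ∈ normalClosure {x} := subset_normalClosure rfl
    rwa [h, mem_bot] at this
  · rw [← h]; exact h1

/-- CHAIN: `k` conjugates of `x` generate `H` with `Dep m H`: then `k + m` conjugates generate `L` -/
theorem CG.of_dep [IsSimpleGroup L] {x : L} (hx : x ≠ 1) {k m : ℕ} (f : Fin k → L)
    (h : Dep m (closure (Set.range fun i => f i * x * (f i)⁻¹))) : CG (k + m) x := by
  obtain ⟨g, hg1, hg2⟩ := exists_of_dep (P := fun y : L => ∃ a : L, y = a * x * a⁻¹) (T := ⊤) (fun _ _ => mem_top _) Dep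
    (fun H _ h => h) (fun n H _ hD hne => by
      rcases hD with h | h
      · exact absurd h hne
      · obtain ⟨a, ha⟩ := exists_conj_not_mem hx hne
        refine ⟨_, ⟨a, rfl⟩, h _ (lt_of_le_of_ne le_sup_left fun he => ha ?_)⟩
        rw [he]
        exact mem_sup_right (subset_closure rfl)) m k _ (fun i => ⟨f i, rfl⟩) h ⟨x, 1, by group⟩
  choose a ha using hg1
  exact ⟨a, by rw [← hg2]; congr 2; funext i; exact (ha i).symm⟩

theorem dep_top (m : ℕ) : Dep m (⊤ : Subgroup L) := by
  cases m with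
  | zero => rfl
  | succ m => exact Or.inl rfl

/-- heights of the entries of a list of orders (in increasing order) -/
def hts : List ℕ → List (ℕ × ℕ)
  | [] => []
  | a :: t => (a, ((hts t).foldr (fun b s => if b.1 % a == 0 && Nat.blt a b.1 && Nat.blt s (b.2 + 1) then b.2 + 1 else s) 1)) :: hts t

/-- every divisibility chain in `os` has length at most `m` -/
def chainOK (os : List ℕ) (m : ℕ) : Bool :=
  (hts os).all fun a => Nat.ble a.2 m && Nat.blt 0 a.2 &&
    (hts os).all fun b => !(b.1 % a.1 == 0) || Nat.ble b.1 a.1 || Nat.blt b.2 a.2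

theorem mem_hts {os : List ℕ} {a : ℕ} (h : a ∈ os) : ∃ k, (a, k) ∈ hts os := by
  induction os with
  | nil => cases h
  | cons b t ih =>
    rcases List.mem_cons.1 h with rfl | h
    · exact ⟨_, List.mem_cons_self ..⟩
    · obtain ⟨k, hk⟩ := ih h
      exact ⟨k, List.mem_cons_of_mem _ hk⟩

theorem dep_of_chainOK [Finite L] {H : Subgroup L} (os : List ℕ) (m : ℕ)
    (hos : ∀ K : Subgroup L, H ≤ K → K ≠ ⊤ → Nat.card K ∈ os) (hc : chainOK os m = true) : Dep m H := by
  unfold chainOK at hc
  rw [List.all_eq_true] at hc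
  have key : ∀ (h : ℕ) (K : Subgroup L), H ≤ K → (Nat.card K, h) ∈ hts os → Dep h K := by
    intro h
    induction h using Nat.strong_induction_on with
    | _ h ih =>
      intro K hK hmem
      have h1 := hc _ hmem
      simp only [Bool.and_eq_true, Nat.blt_eq, List.all_eq_true, Bool.or_eq_true, Bool.not_eq_true', beq_eq_false_iff_ne,
        Nat.ble_eq] at h1
      obtain ⟨⟨h2, h3⟩, h4⟩ := h1
      obtain ⟨h', rfl⟩ : ∃ h', h = h' + 1 := ⟨h - 1, by omega⟩
      right
      intro K' hK'
      by_cases ht : K' = ⊤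
      · rw [ht]; exact dep_top _
      · obtain ⟨j, hj⟩ := mem_hts (hos K' (hK.trans hK'.le) ht)
        have hd : Nat.card K ∣ Nat.card K' := Subgroup.card_dvd_of_le hK'.le
        have hlt : Nat.card K < Nat.card K' := by
          apply lt_of_le_of_ne (Nat.le_of_dvd Nat.card_pos hd)
          intro he
          apply hK'.ne
          exact Subgroup.eq_of_le_of_card_ge hK'.le he.symm.le
        rcases h4 _ hj with (h5 | h5) | h5
        · exact absurd (Nat.mod_eq_zero_of_dvd hd) h5
        · omega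
        · have : j < h' + 1 := h5
          exact (ih j this K' (hK.trans hK'.le) hj).mono (by omega)
  by_cases ht : H = ⊤
  · rw [ht]; exact dep_top _
  · obtain ⟨h, hh⟩ := mem_hts (hos H le_rfl ht)
    have h1 := hc _ hh
    simp only [Bool.and_eq_true, Nat.ble_eq] at h1
    exact (key h H le_rfl hh).mono h1.1.1

theorem CG.of_orders [IsSimpleGroup L] [Finite L] {x : L} (hx : x ≠ 1) {k m : ℕ} (f : Fin k → L) (os : List ℕ)
    (hos : ∀ K : Subgroup L, closure (Set.range fun i => f i * x * (f i)⁻¹) ≤ K → K ≠ ⊤ → Nat.card K ∈ os)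
    (hc : chainOK os m = true) : CG (k + m) x :=
  CG.of_dep hx f (dep_of_chainOK os m hos hc)

end Chain

/-! ### chains for automorphisms -/

section ChainA

variable {L : Type*} [Group L]

/-- a subgroup containing all conjugates of `x` -/
theorem range_le_of_conj [IsSimpleGroup L] {x : MulAut L} (hx : x ≠ 1) {H : Subgroup (MulAut L)}
    (hH : ∀ g : L, MulAut.conj g * x * (MulAut.conj g)⁻¹ ∈ H) :
    zpowers x ⊔ (MulAut.conj : L →* MulAut L).range ≤ H := by
  have hxH : x ∈ H := by simpa using hH 1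
  set N : Subgroup (MulAut L) := closure (Set.range fun g : L => MulAut.conj g * x * (MulAut.conj g)⁻¹) with hN
  have hNH : N ≤ H := by
    rw [hN, closure_le]
    rintro _ ⟨g, rfl⟩
    exact hH g
  have hxN : x ∈ N := Subgroup.subset_closure ⟨1, by simp⟩
  have hnorm : ∀ (g : L) (y : MulAut L), y ∈ N → MulAut.conj g * y * (MulAut.conj g)⁻¹ ∈ N := by
    intro g y hy
    have h1 : N ≤ N.comap (MulAut.conj (MulAut.conj g)).toMonoidHom := by
      rw [hN, closure_le]
      rintro _ ⟨h, rfl⟩
      apply Subgroup.subset_closure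
      refine ⟨g * h, ?_⟩
      simp only [map_mul, MulEquiv.toMonoidHom_eq_coe, MonoidHom.coe_coe, MulAut.conj_apply]
      group
    exact h1 hy
  have hnn : (N.comap (MulAut.conj : L →* MulAut L)).Normal := by
    refine ⟨fun a ha g => ?_⟩
    rw [mem_comap, map_mul, map_mul, map_inv]
    exact hnorm g _ ha
  rcases hnn.eq_bot_or_eq_top with h | h
  · exfalso
    apply hx
    ext b
    have h1 : MulAut.conj b * x * (MulAut.conj b)⁻¹ * x⁻¹ ∈ N :=
      N.mul_mem (Subgroup.subset_closure ⟨b, rfl⟩) (N.inv_mem hxN)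
    have h2 : MulAut.conj b * x * (MulAut.conj b)⁻¹ * x⁻¹ = MulAut.conj (b * (x b)⁻¹) := by
      rw [map_mul, map_inv, ← aut_conj]
      group
    rw [h2] at h1
    have h3 : b * (x b)⁻¹ ∈ N.comap (MulAut.conj : L →* MulAut L) := h1
    rw [h, mem_bot, mul_inv_eq_one] at h3
    exact h3.symm
  · apply sup_le
    · rw [zpowers_le]; exact hxH
    · rintro _ ⟨g, rfl⟩
      apply hNH
      have : g ∈ N.comap (MulAut.conj : L →* MulAut L) := by rw [h]; exact mem_top g
      exact this

/-- CHAIN for automorphisms -/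
theorem CA.of_dep [IsSimpleGroup L] {x : MulAut L} (hx : x ≠ 1) {k m : ℕ} (hk : 0 < k)
    (f : Fin k → L)
    (h : Dep m ((closure (Set.range fun i => MulAut.conj (f i) * x * (MulAut.conj (f i))⁻¹)).comap
      (MulAut.conj : L →* MulAut L))) : CA (k + m) x := by
  have hPT : ∀ y : MulAut L, (∃ a : L, y = MulAut.conj a * x * (MulAut.conj a)⁻¹) →
      y ∈ zpowers x ⊔ (MulAut.conj : L →* MulAut L).range := by
    rintro _ ⟨a, rfl⟩
    have h1 : MulAut.conj a ∈ zpowers x ⊔ (MulAut.conj : L →* MulAut L).range := mem_sup_right ⟨a, rfl⟩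
    have h2 : x ∈ zpowers x ⊔ (MulAut.conj : L →* MulAut L).range := mem_sup_left (mem_zpowers x)
    exact Subgroup.mul_mem _ (Subgroup.mul_mem _ h1 h2) (Subgroup.inv_mem _ h1)
  have hfull : ∀ (a : L) (H : Subgroup (MulAut L)), H ≤ zpowers x ⊔ (MulAut.conj : L →* MulAut L).range →
      MulAut.conj a * x * (MulAut.conj a)⁻¹ ∈ H → H.comap (MulAut.conj : L →* MulAut L) = ⊤ →
      H = zpowers x ⊔ (MulAut.conj : L →* MulAut L).range := by
    intro a H hle ha ht
    apply le_antisymm hle
    have hI : ∀ g : L, MulAut.conj g ∈ H := fun g => by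
      have : g ∈ H.comap (MulAut.conj : L →* MulAut L) := by rw [ht]; exact mem_top g
      exact this
    apply sup_le
    · rw [zpowers_le]
      have : x = (MulAut.conj a)⁻¹ * (MulAut.conj a * x * (MulAut.conj a)⁻¹) * MulAut.conj a := by group
      rw [this]
      exact H.mul_mem (H.mul_mem (H.inv_mem (hI a)) ha) (hI a)
    · rintro _ ⟨g, rfl⟩
      exact hI g
  obtain ⟨g, hg1, hg2⟩ := exists_of_dep (P := fun y : MulAut L => ∃ a : L, y = MulAut.conj a * x * (MulAut.conj a)⁻¹)
    (T := zpowers x ⊔ (MulAut.conj : L →* MulAut L).range) hPT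
    (fun m H => (∃ a : L, MulAut.conj a * x * (MulAut.conj a)⁻¹ ∈ H) ∧ Dep m (H.comap (MulAut.conj : L →* MulAut L)))
    (fun H hle h => by
      obtain ⟨⟨a, ha⟩, h⟩ := h
      exact hfull a H hle ha h)
    (fun n H hle hD hne => by
      obtain ⟨⟨a, ha⟩, hD⟩ := hD
      rcases hD with h | h
      · exact absurd (hfull a H hle ha h) hne
      · have : ∃ b : L, MulAut.conj b * x * (MulAut.conj b)⁻¹ ∉ H := by
          by_contra hno
          apply hne
          exact le_antisymm hle (range_le_of_conj hx fun g => by_contra fun h => hno ⟨g, h⟩)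
        obtain ⟨b, hb⟩ := this
        refine ⟨_, ⟨b, rfl⟩, ⟨a, mem_sup_left ha⟩, h _ ?_⟩
        refine lt_of_le_of_ne (Subgroup.comap_mono le_sup_left) fun he => ?_
        -- the quotient of two conjugates is inner
        have h1 : MulAut.conj b * x * (MulAut.conj b)⁻¹ * (MulAut.conj a * x * (MulAut.conj a)⁻¹)⁻¹ =
            MulAut.conj (b * (x b)⁻¹ * (x a) * a⁻¹) := by
          rw [map_mul, map_mul, map_mul, map_inv, map_inv, ← aut_conj, ← aut_conj]
          group
        have h2 : b * (x b)⁻¹ * (x a) * a⁻¹ ∈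
            (H ⊔ closure {MulAut.conj b * x * (MulAut.conj b)⁻¹}).comap (MulAut.conj : L →* MulAut L) := by
          rw [mem_comap, ← h1]
          exact Subgroup.mul_mem _ (mem_sup_right (Subgroup.subset_closure rfl))
            (Subgroup.inv_mem _ (mem_sup_left ha))
        rw [← he, mem_comap, ← h1] at h2
        apply hb
        have := H.mul_mem h2 ha
        rwa [inv_mul_cancel_right] at this) m k _ (fun i => ⟨f i, rfl⟩)
    ⟨⟨f ⟨0, hk⟩, Subgroup.subset_closure ⟨⟨0, hk⟩, rfl⟩⟩, h⟩ ⟨x, 1, by simp⟩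
  choose a ha using hg1
  exact ⟨a, by rw [← hg2]; congr 2; funext i; exact (ha i).symm⟩

theorem CA.of_orders [IsSimpleGroup L] [Finite L] {x : MulAut L} (hx : x ≠ 1) {k m : ℕ} (hk : 0 < k)
    (f : Fin k → L) (os : List ℕ)
    (hos : ∀ K : Subgroup L, (closure (Set.range fun i => MulAut.conj (f i) * x * (MulAut.conj (f i))⁻¹)).comap
      (MulAut.conj : L →* MulAut L) ≤ K → K ≠ ⊤ → Nat.card K ∈ os)
    (hch : chainOK os m = true) : CA (k + m) x :=
  CA.of_dep hx hk f (dep_of_chainOK os m hos hch)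

end ChainA

/-! ### orbit lemma and commutators -/

section Orbit

variable {L : Type*} [Group L]

/-- commutators lie in the group generated by two conjugates -/
theorem comm_mem (x u : L) : ∃ f : Fin 2 → L, u * x * u⁻¹ * x⁻¹ ∈ closure (Set.range fun i => f i * x * (f i)⁻¹) ∧
    x ∈ closure (Set.range fun i => f i * x * (f i)⁻¹) := by
  have h1 : x ∈ closure (Set.range fun i => (![u, 1] : Fin 2 → L) i * x * ((![u, 1] : Fin 2 → L) i)⁻¹) :=
    Subgroup.subset_closure ⟨1, by simp⟩
  refine ⟨![u, 1], Subgroup.mul_mem _ (Subgroup.subset_closure ⟨0, by simp⟩) (Subgroup.inv_mem _ h1), h1⟩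

/-- INV: `x` normalises but does not centralise the group `⟨z⟩` of prime order -/
theorem mem_of_normalize {x z : L} {r : ℕ} (hr : r.Prime) (hz : orderOf z = r) (h : x * z * x⁻¹ ∈ zpowers z)
    (hne : x * z * x⁻¹ ≠ z) : ∃ f : Fin 2 → L, z ∈ closure (Set.range fun i => f i * x * (f i)⁻¹) ∧
      x ∈ closure (Set.range fun i => f i * x * (f i)⁻¹) := by
  obtain ⟨f, hf1, hf2⟩ := comm_mem x z
  refine ⟨f, ?_, hf2⟩
  have h1 : z * x * z⁻¹ * x⁻¹ = z * (x * z * x⁻¹)⁻¹ := by group
  rw [h1] at hf1
  have h2 : z * (x * z * x⁻¹)⁻¹ ∈ zpowers z := (zpowers z).mul_mem (mem_zpowers z) ((zpowers z).inv_mem h)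
  have h3 : z * (x * z * x⁻¹)⁻¹ ≠ 1 := by
    intro h3
    rw [mul_inv_eq_one] at h3
    exact hne h3.symm
  have : Fact r.Prime := ⟨hr⟩
  have hfin : IsOfFinOrder z := by
    rw [← orderOf_pos_iff, hz]; exact hr.pos
  have h4 : orderOf (z * (x * z * x⁻¹)⁻¹) = r := by
    have h5 : orderOf (z * (x * z * x⁻¹)⁻¹) ∣ r := by
      rw [← hz]; exact orderOf_dvd_of_mem_zpowers h2
    rcases (Nat.dvd_prime hr).1 h5 with h6 | h6
    · exact absurd (orderOf_eq_one_iff.1 h6) h3
    · exact h6
  have h5 : zpowers (z * (x * z * x⁻¹)⁻¹) = zpowers z := by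
    have : Finite (zpowers z) := by
      rw [← Nat.card_pos_iff.trans ⟨fun h => h.2, fun h => ⟨⟨1⟩, h⟩⟩, Nat.card_zpowers, hz]; exact hr.pos
    apply Subgroup.eq_of_le_of_card_ge
    · rw [zpowers_le]; exact h2
    · rw [Nat.card_zpowers, Nat.card_zpowers, h4, hz]
  have h6 : z ∈ zpowers (z * (x * z * x⁻¹)⁻¹) := by rw [h5]; exact mem_zpowers z
  have h7 : zpowers (z * (x * z * x⁻¹)⁻¹) ≤ closure (Set.range fun i => f i * x * (f i)⁻¹) := by
    rw [zpowers_le]; exact hf1
  exact h7 h6

/-- ORBIT for automorphisms: `⟨x, y⟩ ≥ Inn L` and `y ^ n = 1` -/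
theorem CA.of_orbit [IsSimpleGroup L] {x : MulAut L} (hx : x ≠ 1) {y : L} {n : ℕ} (hn : 0 < n) (hy : y ^ n = 1)
    (h : (MulAut.conj : L →* MulAut L).range ≤ closure {x, MulAut.conj y}) : CA n x := by
  refine ⟨fun i => y ^ (i : ℕ), ?_⟩
  set H := closure (Set.range fun i : Fin n => MulAut.conj (y ^ (i : ℕ)) * x * (MulAut.conj (y ^ (i : ℕ)))⁻¹) with hH
  have hmem : ∀ j : ℕ, MulAut.conj (y ^ j) * x * (MulAut.conj (y ^ j))⁻¹ ∈ H := by
    intro j
    have : y ^ j = y ^ (j % n) := by
      conv_lhs => rw [← Nat.div_add_mod j n, pow_add, pow_mul, hy, one_pow, one_mul]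
    rw [this]
    exact Subgroup.subset_closure ⟨⟨j % n, Nat.mod_lt _ hn⟩, rfl⟩
  have hxH : x ∈ H := by simpa using hmem 0
  have hyn : ∀ h ∈ H, MulAut.conj y * h * (MulAut.conj y)⁻¹ ∈ H := by
    intro h hh
    have h1 : H ≤ H.comap (MulAut.conj (MulAut.conj y)).toMonoidHom := by
      conv_lhs => rw [hH]
      rw [closure_le]
      rintro _ ⟨i, rfl⟩
      have h2 := hmem (i + 1)
      rw [pow_succ', map_mul] at h2
      show MulAut.conj y * (MulAut.conj (y ^ (i : ℕ)) * x * (MulAut.conj (y ^ (i : ℕ)))⁻¹) * (MulAut.conj y)⁻¹ ∈ H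
      convert h2 using 1
      group
    exact h1 hh
  have hyj : ∀ (j : ℕ), ∀ h ∈ H, MulAut.conj (y ^ j) * h * (MulAut.conj (y ^ j))⁻¹ ∈ H := by
    intro j
    induction j with
    | zero => intro h hh; simpa using hh
    | succ j ih =>
      intro h hh
      have h1 := hyn _ (ih h hh)
      rw [pow_succ', map_mul]
      convert h1 using 1
      group
  have hN : closure {x, MulAut.conj y} ≤ normalizer (H : Set (MulAut L)) := by
    rw [closure_le]
    rintro z (rfl | rfl)
    · exact le_normalizer hxH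
    · rw [SetLike.mem_coe, mem_normalizer_iff]
      intro h
      refine ⟨hyn h, fun hh => ?_⟩
      have h1 := hyj (n - 1) _ hh
      have h2 : MulAut.conj (y ^ (n - 1)) = (MulAut.conj y)⁻¹ := by
        rw [← map_inv]
        congr 1
        rw [eq_inv_iff_mul_eq_one, ← pow_succ, Nat.sub_add_cancel hn, hy]
      rw [h2] at h1
      convert h1 using 1
      group
  apply le_antisymm
  · rw [hH, closure_le]
    rintro _ ⟨i, rfl⟩
    have h1 : MulAut.conj (y ^ (i : ℕ)) ∈ zpowers x ⊔ (MulAut.conj : L →* MulAut L).range := mem_sup_right ⟨_, rfl⟩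
    have h2 : x ∈ zpowers x ⊔ (MulAut.conj : L →* MulAut L).range := mem_sup_left (mem_zpowers x)
    exact Subgroup.mul_mem _ (Subgroup.mul_mem _ h1 h2) (Subgroup.inv_mem _ h1)
  · apply range_le_of_conj hx
    intro g
    have h1 : MulAut.conj g ∈ normalizer (H : Set (MulAut L)) := hN (h ⟨g, rfl⟩)
    exact (mem_normalizer_iff.1 h1 x).1 hxH

/-- ORBIT: `⟨x, y⟩ = L` and `y ^ n = 1` -/
theorem CG.of_orbit [IsSimpleGroup L] {x : L} (hx : x ≠ 1) {y : L} {n : ℕ} (hn : 0 < n) (hy : y ^ n = 1)
    (h : closure {x, y} = ⊤) : CG n x := by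
  refine ⟨fun i => y ^ (i : ℕ), ?_⟩
  set H := closure (Set.range fun i : Fin n => y ^ (i : ℕ) * x * (y ^ (i : ℕ))⁻¹) with hH
  have hmem : ∀ j : ℕ, y ^ j * x * (y ^ j)⁻¹ ∈ H := by
    intro j
    have : y ^ j = y ^ (j % n) := by
      conv_lhs => rw [← Nat.div_add_mod j n, pow_add, pow_mul, hy, one_pow, one_mul]
    rw [this]
    exact Subgroup.subset_closure ⟨⟨j % n, Nat.mod_lt _ hn⟩, rfl⟩
  have hxH : x ∈ H := by simpa using hmem 0
  have hyn : ∀ h ∈ H, y * h * y⁻¹ ∈ H := by
    intro h hh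
    have h1 : H ≤ H.comap (MulAut.conj y).toMonoidHom := by
      conv_lhs => rw [hH]
      rw [closure_le]
      rintro _ ⟨i, rfl⟩
      have h2 := hmem (i + 1)
      rw [pow_succ'] at h2
      show y * (y ^ (i : ℕ) * x * (y ^ (i : ℕ))⁻¹) * y⁻¹ ∈ H
      convert h2 using 1
      group
    exact h1 hh
  have hyj : ∀ (j : ℕ), ∀ h ∈ H, y ^ j * h * (y ^ j)⁻¹ ∈ H := by
    intro j
    induction j with
    | zero => intro h hh; simpa using hh
    | succ j ih =>
      intro h hh
      have h1 := hyn _ (ih h hh)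
      rw [pow_succ']
      convert h1 using 1
      group
  have hN : closure {x, y} ≤ normalizer (H : Set L) := by
    rw [closure_le]
    rintro z (rfl | rfl)
    · exact le_normalizer hxH
    · rw [SetLike.mem_coe, mem_normalizer_iff]
      intro h
      refine ⟨hyn h, fun hh => ?_⟩
      have h1 := hyj (n - 1) _ hh
      have h2 : z ^ (n - 1) = z⁻¹ := by
        rw [eq_inv_iff_mul_eq_one, ← pow_succ, Nat.sub_add_cancel hn, hy]
      rw [h2] at h1
      convert h1 using 1
      group
  have hHn : H.Normal := by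
    rw [← normalizer_eq_top_iff, eq_top_iff, ← h]
    exact hN
  rcases hHn.eq_bot_or_eq_top with h1 | h1
  · exfalso
    apply hx
    rwa [h1, mem_bot] at hxH
  · exact h1

end Orbit

end Cfsg.Agent.H147.Gen
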