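import Cfsg.Agent.H940.Cover
import Cfsg.Agent.H147.Gen.Base

/-!
# S4327: the chain lemma with the order engine (helper147)

`os` = list (increasing) of the possible orders of the proper subgroups of order divisible by `a` (checked by the engine of
helper940, `chkO2` at the prime `ld.r`, or `chkO`), `chainOK os m` : divisibility chains in `os` have length at most `m`.
If `k` conjugates of `x` generate a subgroup of order divisible by `a` then `k + m` conjugates generate `L`.
-/

set_option autoImplicit false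

namespace Cfsg.Agent.H147.Gen

open Subgroup Cfsg.Agent.H940.Eng

universe u

variable {L : Type u} [Group L] {l : List (ℕ × ℕ)} {n : ℕ} {ords : List ℕ} {loc : List LD}

theorem dep_of_eng (c : Ctx L l n ords loc) {a m : ℕ} (os : List ℕ) {H : Subgroup L}
    (ho : ∀ K : Subgroup L, a ∣ Nat.card K → K ≠ ⊤ → Nat.card K ∈ os) (hm : chainOK os m = true) (ha : a ∣ Nat.card H) :
    Dep m H := by
  have := c.fin
  exact dep_of_chainOK os m (fun K hK hne => ho K (ha.trans (Subgroup.card_dvd_of_le hK)) hne) hm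

theorem orders2 (c : Ctx L l n ords loc) {a : ℕ} (ld : LD) (hld : ld ∈ loc) (os : List ℕ) (bd : ℕ)
    (hc : chkO2 l n a ld os [] bd loc ords = true) (K : Subgroup L) (ha : a ∣ Nat.card K) (hK : K ≠ ⊤) :
    Nat.card K ∈ os :=
  c.orders2 ld hld os [] bd hc ha (by simp) hK

theorem ordersD (c : Ctx L l n ords loc) {a : ℕ} (lD : List (ℕ × ℕ)) (os : List ℕ) (bd : ℕ)
    (hc : chkO l n a lD os [] bd loc ords = true) (K : Subgroup L) (ha : a ∣ Nat.card K) (hK : K ≠ ⊤) :
    Nat.card K ∈ os :=
  c.ordersD lD os [] bd hc ha (by simp) hK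

/-- engine + chain, inner version -/
theorem CG.of_eng (c : Ctx L l n ords loc) {a m : ℕ} (os : List ℕ)
    (ho : ∀ K : Subgroup L, a ∣ Nat.card K → K ≠ ⊤ → Nat.card K ∈ os) (hm : chainOK os m = true)
    {x : L} (hx : x ≠ 1) {k : ℕ} (f : Fin k → L) (ha : a ∣ Nat.card (closure (Set.range fun i => f i * x * (f i)⁻¹))) :
    CG (k + m) x := by
  have := c.fin
  have := c.simple
  exact CG.of_dep hx f (dep_of_eng c os ho hm ha)

/-- engine + chain for automorphisms -/
theorem CA.of_eng (c : Ctx L l n ords loc) {a m : ℕ} (os : List ℕ)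
    (ho : ∀ K : Subgroup L, a ∣ Nat.card K → K ≠ ⊤ → Nat.card K ∈ os) (hm : chainOK os m = true)
    {x : MulAut L} (hx : x ≠ 1) {k : ℕ} (hk : 0 < k) (f : Fin k → L)
    (ha : a ∣ Nat.card ((closure (Set.range fun i => MulAut.conj (f i) * x * (MulAut.conj (f i))⁻¹)).comap
      (MulAut.conj : L →* MulAut L))) : CA (k + m) x := by
  have := c.fin
  have := c.simple
  exact CA.of_dep hx hk f (dep_of_eng c os ho hm ha)

/-- SELF: elements of the engine prime order -/
theorem GenI.of_eng (c : Ctx L l n ords loc) {r m : ℕ} (hr : r.Prime) (os : List ℕ)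
    (ho : ∀ K : Subgroup L, r ∣ Nat.card K → K ≠ ⊤ → Nat.card K ∈ os) (hm : chainOK os m = true) :
    GenI L (1 + m) r := by
  have := c.fin
  intro g hg
  have hg1 : g ≠ 1 := by
    rintro rfl
    rw [orderOf_one] at hg
    exact hr.one_lt.ne hg
  apply CG.of_eng c os ho hm hg1 (fun _ : Fin 1 => 1)
  have h1 : g ∈ closure (Set.range fun _ : Fin 1 => (1 : L) * g * (1 : L)⁻¹) := subset_closure ⟨0, by simp⟩
  rw [← hg, ← Subgroup.orderOf_mk g h1]
  exact orderOf_dvd_natCard _

/-- the order of an element divides the order of a subgroup containing it -/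
theorem dvd_card_of_mem [Finite L] {z : L} {H : Subgroup L} (h : z ∈ H) : orderOf z ∣ Nat.card H := by
  rw [← Subgroup.orderOf_mk z h]
  exact orderOf_dvd_natCard _

/-- INV: `x` normalises but does not centralise the group `⟨z⟩` of prime order `r` -/
theorem CG.of_inv (c : Ctx L l n ords loc) {r m : ℕ} (hr : r.Prime) (os : List ℕ)
    (ho : ∀ K : Subgroup L, r ∣ Nat.card K → K ≠ ⊤ → Nat.card K ∈ os) (hm : chainOK os m = true)
    {x z : L} (hz : orderOf z = r) (h : x * z * x⁻¹ ∈ zpowers z) (hne : x * z * x⁻¹ ≠ z) : CG (2 + m) x := by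
  have := c.fin
  have hx : x ≠ 1 := by
    rintro rfl
    apply hne
    group
  obtain ⟨f, hf, -⟩ := mem_of_normalize hr hz h hne
  apply CG.of_eng c os ho hm hx f
  rw [← hz]
  exact dvd_card_of_mem hf

end Cfsg.Agent.H147.Gen
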